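import Groth.Prelude.Def_PP16
import Mathlib.RingTheory.IsTensorProduct
import Mathlib.RingTheory.Ideal.Quotient.Operations
import Mathlib.RingTheory.Nilpotent.Basic
import Mathlib.LinearAlgebra.TensorProduct.RightExactness

/-!
# Basic theory of principal parts: universal property, base change.
-/

universe u
open scoped TensorProduct

namespace Groth.Agent.PP

section
variable (n : ℕ) (A B : Type u) [CommRing A] [CommRing B] [Algebra A B]

theorem algebraMap_apply_mk (b : B) :
    algebraMap B (PP16.P n A B) b = Ideal.Quotient.mk _ (b ⊗ₜ[A] (1 : B)) := rfl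

theorem dn_apply_mk (b : B) :
    PP16.dn n A B b = Ideal.Quotient.mk _ ((1 : B) ⊗ₜ[A] b) := rfl

theorem mk_tmul (b c : B) :
    (Ideal.Quotient.mk _ (b ⊗ₜ[A] c) : PP16.P n A B) =
      algebraMap B (PP16.P n A B) b * PP16.dn n A B c := by
  rw [algebraMap_apply_mk, dn_apply_mk, ← map_mul, Algebra.TensorProduct.tmul_mul_tmul, mul_one,
    one_mul]

theorem dn_sub_mem (b : B) :
    PP16.dn n A B b - algebraMap B (PP16.P n A B) b ∈ PP16.augIdeal n A B := by
  rw [algebraMap_apply_mk, dn_apply_mk, ← map_sub]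
  exact Ideal.mem_map_of_mem _ (KaehlerDifferential.one_smul_sub_smul_one_mem_ideal A b)

theorem augIdeal_eq_span :
    PP16.augIdeal n A B =
      Ideal.span (Set.range fun b => PP16.dn n A B b - algebraMap B (PP16.P n A B) b) := by
  have h : PP16.augIdeal n A B = (Ideal.span (Set.range fun s : B => (1 : B) ⊗ₜ[A] s - s ⊗ₜ[A] (1 : B))).map
      (Ideal.Quotient.mk (KaehlerDifferential.ideal A B ^ (n + 1))) :=
    congrArg (Ideal.map _) (KaehlerDifferential.span_range_eq_ideal A B).symm
  rw [h, Ideal.map_span, ← Set.range_comp]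
  rfl

theorem augIdeal_pow : PP16.augIdeal n A B ^ (n + 1) = ⊥ := by
  rw [PP16.augIdeal, ← Ideal.map_pow, Ideal.map_quotient_self]

theorem isUnit_dn {b : B} (hb : IsUnit b) : IsUnit (PP16.dn n A B b) :=
  hb.map _

/-- Two additive multiplicative maps out of `P` agreeing on both copies of `B` are equal. -/
theorem hom_ext {R : Type*} [Semiring R] {φ ψ : PP16.P n A B →+* R}
    (h1 : ∀ b, φ (algebraMap B _ b) = ψ (algebraMap B _ b))
    (h2 : ∀ b, φ (PP16.dn n A B b) = ψ (PP16.dn n A B b)) : φ = ψ := by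
  refine Ideal.Quotient.ringHom_ext (RingHom.ext fun x => ?_)
  induction x using TensorProduct.induction_on with
  | zero => simp
  | tmul b c =>
    show φ (Ideal.Quotient.mk _ (b ⊗ₜ[A] c)) = ψ (Ideal.Quotient.mk _ (b ⊗ₜ[A] c))
    rw [mk_tmul, map_mul, map_mul, h1, h2]
  | add x y hx hy => rw [map_add, map_add, hx, hy]

/-- A subring containing both copies of `B` is everything. -/
theorem mem_of_generators (S : Subring (PP16.P n A B))
    (h1 : ∀ b, algebraMap B _ b ∈ S) (h2 : ∀ b, PP16.dn n A B b ∈ S) (x : PP16.P n A B) : x ∈ S := by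
  obtain ⟨x, rfl⟩ := Ideal.Quotient.mk_surjective x
  induction x using TensorProduct.induction_on with
  | zero => rw [map_zero]; exact zero_mem S
  | tmul b c => rw [mk_tmul]; exact mul_mem (h1 b) (h2 c)
  | add x y hx hy => rw [map_add]; exact add_mem hx hy

theorem surjective_of_generators {R : Type*} [Ring R] (φ : R →+* PP16.P n A B)
    (h1 : ∀ b, algebraMap B (PP16.P n A B) b ∈ φ.range) (h2 : ∀ b, PP16.dn n A B b ∈ φ.range) :
    Function.Surjective φ :=
  fun x => mem_of_generators n A B φ.range h1 h2 x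

variable {n A B}

/-- The universal property of principal parts. -/
noncomputable def liftP {C : Type*} [CommRing C] [Algebra A C] (f g : B →ₐ[A] C) (J : Ideal C)
    (hJ : J ^ (n + 1) = ⊥) (hfg : ∀ b, g b - f b ∈ J) : PP16.P n A B →ₐ[A] C :=
  Ideal.Quotient.liftₐ _ (Algebra.TensorProduct.lift f g fun _ _ => Commute.all _ _) fun x hx => by
    have hle : (KaehlerDifferential.ideal A B).map
        (Algebra.TensorProduct.lift f g fun _ _ => Commute.all _ _) ≤ J := by
      rw [← KaehlerDifferential.span_range_eq_ideal, Ideal.map_span, Ideal.span_le]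
      rintro _ ⟨_, ⟨s, rfl⟩, rfl⟩
      simpa using hfg s
    have h := Ideal.pow_right_mono hle (n + 1)
    rw [← Ideal.map_pow, hJ] at h
    exact (Submodule.mem_bot C).mp (h (Ideal.mem_map_of_mem _ hx))

theorem liftP_algebraMap {C : Type*} [CommRing C] [Algebra A C] (f g : B →ₐ[A] C) (J : Ideal C)
    (hJ : J ^ (n + 1) = ⊥) (hfg : ∀ b, g b - f b ∈ J) (b : B) :
    liftP f g J hJ hfg (algebraMap B _ b) = f b := by
  show (Algebra.TensorProduct.lift f g fun _ _ => Commute.all _ _) (b ⊗ₜ[A] (1 : B)) = f b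
  simp

theorem liftP_dn {C : Type*} [CommRing C] [Algebra A C] (f g : B →ₐ[A] C) (J : Ideal C)
    (hJ : J ^ (n + 1) = ⊥) (hfg : ∀ b, g b - f b ∈ J) (b : B) :
    liftP f g J hJ hfg (PP16.dn n A B b) = g b := by
  show (Algebra.TensorProduct.lift f g fun _ _ => Commute.all _ _) ((1 : B) ⊗ₜ[A] b) = g b
  simp

end

section aux

variable (B B' C A' : Type u) [CommRing B] [CommRing B'] [Algebra B B'] [CommRing C] [Algebra B C]
  [CommRing A'] [Algebra A' B']

theorem pow_map_includeRight (I : Ideal C) {m : ℕ} (hI : I ^ m = ⊥) :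
    (I.map (Algebra.TensorProduct.includeRight (R := B) (A := B') (B := C))) ^ m = ⊥ := by
  rw [← Ideal.map_pow, hI, Ideal.map_bot]

theorem sub_includeLeft_mem (I : Ideal C) (d : B → C) (hd : ∀ b, d b - algebraMap B C b ∈ I)
    (g : B' →ₐ[A'] B' ⊗[B] C) (hg : ∀ b, g (algebraMap B B' b) = (1 : B') ⊗ₜ[B] d b)
    (hext : ∀ (D : Type u) [CommRing D] [Algebra A' D] (φ ψ : B' →ₐ[A'] D),
      (∀ b, φ (algebraMap B B' b) = ψ (algebraMap B B' b)) → φ = ψ) (b' : B') :
    g b' - b' ⊗ₜ[B] (1 : C) ∈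
      I.map (Algebra.TensorProduct.includeRight (R := B) (A := B') (B := C)) := by
  set J := I.map (Algebra.TensorProduct.includeRight (R := B) (A := B') (B := C))
  let f : B' →ₐ[A'] B' ⊗[B] C :=
    Algebra.TensorProduct.includeLeft (R := B) (S := A') (A := B') (B := C)
  have h := hext ((B' ⊗[B] C) ⧸ J) ((Ideal.Quotient.mkₐ A' J).comp g)
    ((Ideal.Quotient.mkₐ A' J).comp f) fun b => by
      simp only [AlgHom.coe_comp, Function.comp_apply, Ideal.Quotient.mkₐ_eq_mk]
      rw [Ideal.Quotient.eq, hg]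
      have hfb : f (algebraMap B B' b) = (1 : B') ⊗ₜ[B] algebraMap B C b := by
        show (algebraMap B B' b) ⊗ₜ[B] (1 : C) = _
        rw [Algebra.algebraMap_eq_smul_one, Algebra.algebraMap_eq_smul_one,
          TensorProduct.smul_tmul]
      rw [hfb, ← TensorProduct.tmul_sub]
      exact Ideal.mem_map_of_mem _ (hd b)
  rw [← Ideal.Quotient.eq]
  exact DFunLike.congr_fun h b'

/-- Generic form of the base change argument. -/
theorem isPushout_gen (C' : Type u) [CommRing C'] [Algebra B' C'] [Algebra C C'] [Algebra B C']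
    [IsScalarTower B C C'] [IsScalarTower B B' C'] [Algebra A' C'] [IsScalarTower A' B' C']
    (m : ℕ) (I : Ideal C) (hI : I ^ m = ⊥) (d : B → C) (hd : ∀ b, d b - algebraMap B C b ∈ I)
    (d' : B' →ₐ[A'] C') (hdd : ∀ b, algebraMap C C' (d b) = d' (algebraMap B B' b))
    (g : B' →ₐ[A'] B' ⊗[B] C) (hg : ∀ b, g (algebraMap B B' b) = (1 : B') ⊗ₜ[B] d b)
    (hext : ∀ (D : Type u) [CommRing D] [Algebra A' D] (φ ψ : B' →ₐ[A'] D),
      (∀ b, φ (algebraMap B B' b) = ψ (algebraMap B B' b)) → φ = ψ)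
    (hgen : ∀ (D : Type u) [CommRing D] (φ ψ : C →+* D), (∀ b, φ (algebraMap B C b) = ψ (algebraMap B C b)) →
      (∀ b, φ (d b) = ψ (d b)) → φ = ψ)
    (hgen' : ∀ (D : Type u) [CommRing D] (φ ψ : C' →+* D),
      (∀ b, φ (algebraMap B' C' b) = ψ (algebraMap B' C' b)) →
      (∀ b, φ (d' b) = ψ (d' b)) → φ = ψ)
    (hlift : ∀ (D : Type u) [CommRing D] [Algebra A' D] (f g : B' →ₐ[A'] D) (J : Ideal D),
      J ^ m = ⊥ → (∀ b, g b - f b ∈ J) →
      ∃ φ : C' →+* D, (∀ b, φ (algebraMap B' C' b) = f b) ∧ ∀ b, φ (d' b) = g b) :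
    Algebra.IsPushout B C B' C' := by
  let f : B' →ₐ[A'] B' ⊗[B] C :=
    Algebra.TensorProduct.includeLeft (R := B) (S := A') (A := B') (B := C)
  obtain ⟨inv, hinvl, hinvd⟩ := hlift (B' ⊗[B] C) f g _ (pow_map_includeRight B B' C I hI)
    (sub_includeLeft_mem B B' C A' I d hd g hg hext)
  let Φ : B' ⊗[B] C →ₐ[B'] C' :=
    Algebra.TensorProduct.lift (Algebra.ofId _ _) (IsScalarTower.toAlgHom B C C') fun _ _ => Commute.all _ _
  have hΦr : ∀ x, Φ (1 ⊗ₜ[B] x) = algebraMap C C' x := fun x => by simp [Φ]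
  have hΦl : ∀ x, Φ (x ⊗ₜ[B] 1) = algebraMap B' C' x := fun x => by simp [Φ]
  have hΦg : ∀ b', Φ (g b') = d' b' := by
    have h := hext C' ((Φ.restrictScalars A').comp g) d' fun b => by
      show Φ (g _) = _
      rw [hg, hΦr, hdd]
    exact DFunLike.congr_fun h
  have h1 : ∀ x, Φ (inv x) = x := by
    have h := hgen' C' (Φ.toRingHom.comp inv) (RingHom.id _)
      (fun b' => by
        show Φ (inv _) = _
        rw [hinvl, RingHom.id_apply]; exact hΦl b')
      (fun b' => by
        show Φ (inv _) = _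
        rw [hinvd, hΦg]; rfl)
    exact DFunLike.congr_fun h
  have hp : ∀ p, inv (algebraMap C C' p) = (1 : B') ⊗ₜ[B] p := by
    have h := hgen (B' ⊗[B] C) (inv.comp (algebraMap C C'))
      (Algebra.TensorProduct.includeRight (R := B) (A := B') (B := C)).toRingHom
      (fun b => by
        show inv _ = _
        rw [← IsScalarTower.algebraMap_apply, IsScalarTower.algebraMap_apply B B' C', hinvl]
        show (algebraMap B B' b) ⊗ₜ[B] (1 : C) = (1 : B') ⊗ₜ[B] algebraMap B C b
        rw [Algebra.algebraMap_eq_smul_one, Algebra.algebraMap_eq_smul_one,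
          TensorProduct.smul_tmul])
      (fun b => by
        show inv _ = _
        rw [hdd, hinvd, hg]; rfl)
    exact DFunLike.congr_fun h
  have h2 : ∀ x, inv (Φ x) = x := by
    intro x
    induction x using TensorProduct.induction_on with
    | zero => simp
    | tmul b' p =>
      have : b' ⊗ₜ[B] p = (b' ⊗ₜ[B] (1 : C)) * ((1 : B') ⊗ₜ[B] p) := by simp
      conv_lhs => rw [this, map_mul, map_mul, hΦr, hp, hΦl, hinvl]
      exact this.symm
    | add x y hx hy => rw [map_add, map_add, hx, hy]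
  let e : B' ⊗[B] C ≃ₐ[B'] C' :=
    AlgEquiv.ofBijective Φ ⟨Function.LeftInverse.injective h2, Function.RightInverse.surjective h1⟩
  letI : Algebra C (B' ⊗[B] C) := Algebra.TensorProduct.rightAlgebra
  haveI : Algebra.IsPushout B B' C (B' ⊗[B] C) := TensorProduct.isPushout
  refine (Algebra.IsPushout.of_equiv e ?_).symm
  ext x
  exact hΦr x

end aux

section pushout

variable (n : ℕ) (A B A' B' : Type u) [CommRing A] [CommRing B] [Algebra A B]
  [CommRing A'] [CommRing B'] [Algebra A' B'] [Algebra A A'] [Algebra B B'] [Algebra A B']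
  [IsScalarTower A A' B'] [IsScalarTower A B B']

/-- Base change of principal parts along a square, given an extension of `dn` and an extensionality
property of `A'`-algebra maps out of `B'`. -/
theorem isPushout_of
    (g : B' →ₐ[A'] B' ⊗[B] PP16.P n A B)
    (hg : ∀ b, g (algebraMap B B' b) = (1 : B') ⊗ₜ[B] PP16.dn n A B b)
    (hext : ∀ (C : Type u) [CommRing C] [Algebra A' C] (φ ψ : B' →ₐ[A'] C),
      (∀ b, φ (algebraMap B B' b) = ψ (algebraMap B B' b)) → φ = ψ) :
    letI := PP16.mapAlgebra n A B A' B'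
    haveI := PP16.isScalarTower_mapAlgebra n A B A' B'
    Algebra.IsPushout B (PP16.P n A B) B' (PP16.P n A' B') := by
  letI := PP16.mapAlgebra n A B A' B'
  haveI := PP16.isScalarTower_mapAlgebra n A B A' B'
  exact isPushout_gen B B' (PP16.P n A B) A' (PP16.P n A' B') (n + 1) (PP16.augIdeal n A B)
    (augIdeal_pow n A B) (PP16.dn n A B) (dn_sub_mem n A B) (PP16.dn n A' B')
    (PP16.map_dn n A B A' B') g hg hext (fun D _ φ ψ h1 h2 => hom_ext n A B h1 h2)
    (fun D _ φ ψ h1 h2 => hom_ext n A' B' h1 h2)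
    (fun D _ _ f g J hJ hfg =>
      ⟨(liftP f g J hJ hfg).toRingHom, liftP_algebraMap f g J hJ hfg, liftP_dn f g J hJ hfg⟩)

end pushout

end Groth.Agent.PP
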