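import Groth.Agent.Lib.PP16.Basic

/-!
# Kernels of maps out of rings of principal parts
-/

universe u
open scoped TensorProduct

namespace Groth.Agent.PP

theorem ker_eq_of_inverse {P R : Type*} [CommRing P] [CommRing R] (φ : P →+* R) (K : Ideal P)
    (hK : K ≤ RingHom.ker φ) (h : R →+* P ⧸ K) (hh : h.comp φ = Ideal.Quotient.mk K) :
    RingHom.ker φ = K := by
  refine le_antisymm (fun x hx => ?_) hK
  rw [← Ideal.Quotient.eq_zero_iff_mem, ← hh, RingHom.comp_apply, hx, map_zero]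

theorem exists_lift_quotient (n : ℕ) (A' B' : Type u) [CommRing A'] [CommRing B'] [Algebra A' B']
    (P0 : Type u) [CommRing P0] [Algebra A' P0] (K I : Ideal P0) (hI : I ^ (n + 1) = ⊥)
    (f g : B' →ₐ[A'] P0 ⧸ K) (hfg : ∀ b, g b - f b ∈ I.map (Ideal.Quotient.mk K)) :
    ∃ h : PP16.P n A' B' →+* P0 ⧸ K,
      (∀ b, h (algebraMap B' _ b) = f b) ∧ ∀ b, h (PP16.dn n A' B' b) = g b := by
  have hJ : (I.map (Ideal.Quotient.mk K)) ^ (n + 1) = ⊥ := by
    rw [← Ideal.map_pow, hI, Ideal.map_bot]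
  exact ⟨(liftP f g _ hJ hfg).toRingHom, liftP_algebraMap f g _ hJ hfg, liftP_dn f g _ hJ hfg⟩

theorem exists_quotient_hom {A B P0 : Type*} [CommRing A] [CommRing B] [CommRing P0] [Algebra A B]
    [Algebra A P0] (K0 : Ideal B) (K : Ideal P0) (d : B →ₐ[A] P0) (hd : ∀ b ∈ K0, d b ∈ K) :
    ∃ f : (B ⧸ K0) →ₐ[A] P0 ⧸ K, ∀ b, f (Ideal.Quotient.mk K0 b) = Ideal.Quotient.mk K (d b) :=
  ⟨Ideal.Quotient.liftₐ K0 ((Ideal.Quotient.mkₐ A K).comp d) fun b hb =>
    Ideal.Quotient.eq_zero_iff_mem.mpr (hd b hb), fun _ => rfl⟩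

theorem ker_map_quotient (n : ℕ) (A B : Type u) [CommRing A] [CommRing B] [Algebra A B]
    (K : Ideal B) :
    Function.Surjective (PP16.map n A B A (B ⧸ K)) ∧
      RingHom.ker (PP16.map n A B A (B ⧸ K)) =
        K.map (algebraMap B (PP16.P n A B)) ⊔ K.map (PP16.dn n A B) := by
  constructor
  · exact surjective_of_generators n A (B ⧸ K) (PP16.map n A B A (B ⧸ K)).toRingHom
      (fun b => by
        obtain ⟨b, rfl⟩ := Ideal.Quotient.mk_surjective b
        exact ⟨_, PP16.map_algebraMap n A B A (B ⧸ K) b⟩)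
      (fun b => by
        obtain ⟨b, rfl⟩ := Ideal.Quotient.mk_surjective b
        exact ⟨_, PP16.map_dn n A B A (B ⧸ K) b⟩)
  set K' := K.map (algebraMap B (PP16.P n A B)) ⊔ K.map (PP16.dn n A B) with hK'
  obtain ⟨f, hf⟩ := exists_quotient_hom K K' (IsScalarTower.toAlgHom A B (PP16.P n A B))
    fun b hb => Ideal.mem_sup_left (Ideal.mem_map_of_mem (algebraMap B (PP16.P n A B)) hb)
  obtain ⟨g, hg⟩ := exists_quotient_hom K K' (PP16.dn n A B)
    fun b hb => Ideal.mem_sup_right (Ideal.mem_map_of_mem (PP16.dn n A B) hb)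
  obtain ⟨h, h1, h2⟩ := exists_lift_quotient n A (B ⧸ K) (PP16.P n A B) K' _ (augIdeal_pow n A B) f g
    fun b => by
      obtain ⟨b, rfl⟩ := Ideal.Quotient.mk_surjective b
      rw [hf, hg, ← map_sub]
      exact Ideal.mem_map_of_mem _ (dn_sub_mem n A B b)
  refine ker_eq_of_inverse (PP16.map n A B A (B ⧸ K)).toRingHom K' (sup_le ?_ ?_) h (hom_ext n A B ?_ ?_)
  · rw [Ideal.map_le_iff_le_comap]
    intro b hb
    show PP16.map n A B A (B ⧸ K) (algebraMap B _ b) = 0
    rw [PP16.map_algebraMap, Ideal.Quotient.algebraMap_eq, Ideal.Quotient.eq_zero_iff_mem.mpr hb,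
      map_zero]
  · rw [Ideal.map_le_iff_le_comap]
    intro b hb
    show PP16.map n A B A (B ⧸ K) (PP16.dn n A B b) = 0
    rw [PP16.map_dn, Ideal.Quotient.algebraMap_eq, Ideal.Quotient.eq_zero_iff_mem.mpr hb, map_zero]
  · intro b
    show h (PP16.map n A B A (B ⧸ K) (algebraMap B _ b)) = _
    rw [PP16.map_algebraMap, h1, Ideal.Quotient.algebraMap_eq, hf]
    rfl
  · intro b
    show h (PP16.map n A B A (B ⧸ K) (PP16.dn n A B b)) = _
    rw [PP16.map_dn, h2, Ideal.Quotient.algebraMap_eq, hg]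

theorem exists_tower_homs {A B C P0 : Type*} [CommRing A] [CommRing B] [CommRing C] [CommRing P0]
    [Algebra A B] [Algebra B C] [Algebra A C] [IsScalarTower A B C] [Algebra A P0] [Algebra B P0]
    [IsScalarTower A B P0] (K : Ideal P0) (l r : C →ₐ[A] P0)
    (hl : ∀ b, l (algebraMap B C b) = algebraMap B P0 b)
    (hr : ∀ b, r (algebraMap B C b) - algebraMap B P0 b ∈ K) :
    ∃ f g : C →ₐ[B] P0 ⧸ K,
      (∀ c, f c = Ideal.Quotient.mk K (l c)) ∧ ∀ c, g c = Ideal.Quotient.mk K (r c) :=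
  ⟨{ (Ideal.Quotient.mk K).comp l.toRingHom with
      commutes' := fun b => by
        show Ideal.Quotient.mk K (l (algebraMap B C b)) = _
        rw [hl]; rfl },
    { (Ideal.Quotient.mk K).comp r.toRingHom with
      commutes' := fun b => by
        show Ideal.Quotient.mk K (r (algebraMap B C b)) = _
        exact Ideal.Quotient.eq.mpr (hr b) }, fun _ => rfl, fun _ => rfl⟩

theorem ker_map_tower (n : ℕ) (A B C : Type u) [CommRing A] [CommRing B] [CommRing C]
    [Algebra A B] [Algebra B C] [Algebra A C] [IsScalarTower A B C] :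
    Function.Surjective (PP16.map n A C B C) ∧
      RingHom.ker (PP16.map n A C B C) = (PP16.augIdeal n A B).map (PP16.map n A B A C) := by
  constructor
  · exact surjective_of_generators n B C (PP16.map n A C B C).toRingHom
      (fun c => ⟨_, PP16.map_algebraMap n A C B C c⟩) (fun c => ⟨_, PP16.map_dn n A C B C c⟩)
  set K' := (PP16.augIdeal n A B).map (PP16.map n A B A C) with hK'
  have hr : ∀ b : B, PP16.dn n A C (algebraMap B C b) - algebraMap B (PP16.P n A C) b ∈ K' := by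
    intro b
    have h := Ideal.mem_map_of_mem (PP16.map n A B A C) (dn_sub_mem n A B b)
    rw [map_sub, PP16.map_dn, PP16.map_algebraMap,
      ← IsScalarTower.algebraMap_apply B C (PP16.P n A C)] at h
    exact h
  obtain ⟨f, g, hf, hg⟩ := exists_tower_homs K' (IsScalarTower.toAlgHom A C (PP16.P n A C))
    (PP16.dn n A C) (fun b => (IsScalarTower.algebraMap_apply B C (PP16.P n A C) b).symm) hr
  obtain ⟨h, h1, h2⟩ := exists_lift_quotient n B C (PP16.P n A C) K' _ (augIdeal_pow n A C) f g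
    fun c => by
      rw [hf, hg, ← map_sub]
      exact Ideal.mem_map_of_mem _ (dn_sub_mem n A C c)
  refine ker_eq_of_inverse (PP16.map n A C B C).toRingHom K' ?_ h (hom_ext n A C ?_ ?_)
  · rw [hK', augIdeal_eq_span, Ideal.map_span, Ideal.span_le]
    rintro _ ⟨_, ⟨b, rfl⟩, rfl⟩
    show PP16.map n A C B C (PP16.map n A B A C _) = 0
    rw [map_sub, map_sub, PP16.map_dn, PP16.map_algebraMap, PP16.map_dn, PP16.map_algebraMap,
      sub_eq_zero]
    show PP16.dn n B C (algebraMap B C b) = algebraMap C (PP16.P n B C) (algebraMap B C b)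
    rw [AlgHom.commutes, ← IsScalarTower.algebraMap_apply]
  · intro c
    show h (PP16.map n A C B C (algebraMap C _ c)) = _
    rw [PP16.map_algebraMap, h1, hf]
    rfl
  · intro c
    show h (PP16.map n A C B C (PP16.dn n A C c)) = _
    rw [PP16.map_dn, h2, hg]
    rfl

end Groth.Agent.PP
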