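import Groth.Agent.Lib.PP16.Poly
import Groth.Agent.Lib.SymGr.DiffSmooth
import Groth.Agent.Lib.Diff16.Basic
import Mathlib.RingTheory.MvPolynomial.Homogeneous
import Mathlib.Data.Nat.Choose.Sum
import Mathlib.LinearAlgebra.Basis.Basic
import Mathlib.Data.Finsupp.Fintype

/-!
# Monomial bases of principal parts and divided power operators
-/

universe u v
open scoped TensorProduct

namespace Groth.Agent.PP

variable {A B : Type u} [CommRing A] [CommRing B] [Algebra A B] {σ : Type v} (z : σ → B)

/-- `T i ↦ 1 ⊗ z i - z i ⊗ 1`. -/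
noncomputable def tauT : MvPolynomial σ B →ₐ[B] B ⊗[A] B :=
  MvPolynomial.aeval fun i => ((1 : B) ⊗ₜ[A] z i - z i ⊗ₜ[A] (1 : B))

theorem tauMap_eq_mk (n : ℕ) (f : MvPolynomial σ B) :
    tauMap n A B z f = Ideal.Quotient.mk _ (tauT (A := A) z f) := by
  have h : tauMap n A B z =
      (Ideal.Quotient.mkₐ B (KaehlerDifferential.ideal A B ^ (n + 1))).comp (tauT (A := A) z) :=
    MvPolynomial.algHom_ext fun i => by
      rw [tauMap, MvPolynomial.aeval_X, AlgHom.comp_apply, tauT, MvPolynomial.aeval_X, map_sub]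
      rfl
  rw [h]
  rfl

theorem tauT_mem_pow (k : ℕ) (f : MvPolynomial σ B) (hf : ∀ d : σ →₀ ℕ, d.degree < k → f.coeff d = 0) :
    tauT (A := A) z f ∈ KaehlerDifferential.ideal A B ^ k := by
  have hle : (MvPolynomial.idealOfVars σ B).map (tauT (A := A) z) ≤ KaehlerDifferential.ideal A B := by
    rw [MvPolynomial.idealOfVars, Ideal.map_span, Ideal.span_le]
    rintro _ ⟨_, ⟨i, rfl⟩, rfl⟩
    rw [tauT, MvPolynomial.aeval_X]
    exact KaehlerDifferential.one_smul_sub_smul_one_mem_ideal A (z i)
  have h := Ideal.pow_right_mono hle k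
  rw [← Ideal.map_pow] at h
  exact h (Ideal.mem_map_of_mem _ ((MvPolynomial.mem_pow_idealOfVars_iff' _ _).mpr hf))

variable (A) in
/-- The span hypothesis gives surjectivity of `tauMap`. -/
theorem tauMap_surjective_of_span
    (hz : Submodule.span B (Set.range fun i => KaehlerDifferential.D A B (z i)) = ⊤) (n : ℕ) :
    Function.Surjective (tauMap n A B z) := by
  let S : Subalgebra B (B ⊗[A] B) := (tauT (A := A) z).range
  -- every element of `(KaehlerDifferential.ideal A B)` is in `S + I²`
  have h1 : ∀ x ∈ (KaehlerDifferential.ideal A B), ∃ s ∈ S, x - s ∈ (KaehlerDifferential.ideal A B) ^ 2 ∧ s ∈ (KaehlerDifferential.ideal A B) := by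
    intro x hx
    have hmem : KaehlerDifferential.fromIdeal A B ⟨x, hx⟩ ∈
        Submodule.span B (Set.range fun i => KaehlerDifferential.D A B (z i)) := hz ▸ Submodule.mem_top
    obtain ⟨c, hc⟩ := Finsupp.mem_span_range_iff_exists_finsupp.mp hmem
    refine ⟨tauT (A := A) z (c.sum fun i a => MvPolynomial.C a * MvPolynomial.X i), ⟨_, rfl⟩, ?_, ?_⟩
    · have hs : c.sum (fun i a => a • (SymGr.del A B (z i) : ↥(KaehlerDifferential.ideal A B))) - ⟨x, hx⟩ ∈
          LinearMap.ker (KaehlerDifferential.ideal A B).toCotangent := by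
        rw [LinearMap.mem_ker]
        show KaehlerDifferential.fromIdeal A B _ = 0
        rw [map_sub, map_finsuppSum, sub_eq_zero]
        refine Eq.trans ?_ hc
        exact Finsupp.sum_congr fun i _ => LinearMap.map_smul_of_tower (KaehlerDifferential.fromIdeal A B) _ _
      rw [Ideal.mem_toCotangent_ker, Submodule.coe_sub] at hs
      have he : ((c.sum fun i a => a • (SymGr.del A B (z i) : ↥(KaehlerDifferential.ideal A B)) : ↥(KaehlerDifferential.ideal A B)) : B ⊗[A] B) =
          tauT (A := A) z (c.sum fun i a => MvPolynomial.C a * MvPolynomial.X i) := by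
        rw [map_finsuppSum, Finsupp.sum, Finsupp.sum, Submodule.coe_sum]
        refine Finset.sum_congr rfl fun i _ => ?_
        rw [map_mul, tauT, MvPolynomial.aeval_C, MvPolynomial.aeval_X, ← Algebra.smul_def]
        rfl
      rw [he] at hs
      simpa using neg_mem hs
    · have h := tauT_mem_pow (A := A) z 1 (c.sum fun i a => MvPolynomial.C a * MvPolynomial.X i) fun d hd => ?_
      · rwa [pow_one] at h
      · obtain rfl : d = 0 := (Finsupp.degree_eq_zero_iff d).mp (Nat.lt_one_iff.mp hd)
        simp [Finsupp.sum, ← MvPolynomial.constantCoeff_eq]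
  -- products
  have h2 : ∀ k, ∀ x ∈ (KaehlerDifferential.ideal A B) ^ (k + 1), ∃ s ∈ S, x - s ∈ (KaehlerDifferential.ideal A B) ^ (k + 2) ∧ s ∈ (KaehlerDifferential.ideal A B) ^ (k + 1) := by
    intro k
    induction k with
    | zero => simpa using h1
    | succ k ih =>
      intro x hx
      rw [pow_succ'] at hx
      refine Submodule.mul_induction_on hx ?_ ?_
      · intro a ha b hb
        obtain ⟨s, hs, has, hsI⟩ := h1 a ha
        obtain ⟨t, ht, hbt, htI⟩ := ih b hb
        refine ⟨s * t, mul_mem hs ht, ?_, ?_⟩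
        · rw [show a * b - s * t = (a - s) * b + s * (b - t) by ring]
          refine add_mem ?_ ?_
          · rw [show k + 1 + 2 = 2 + (k + 1) by omega, pow_add]; exact Ideal.mul_mem_mul has hb
          · rw [show k + 1 + 2 = (k + 2) + 1 by omega, pow_succ']; exact Ideal.mul_mem_mul hsI hbt
        · rw [pow_succ']; exact Ideal.mul_mem_mul hsI htI
      · rintro x y ⟨s, hs, hs1, hs2⟩ ⟨t, ht, ht1, ht2⟩
        refine ⟨s + t, add_mem hs ht, ?_, add_mem hs2 ht2⟩
        rw [show x + y - (s + t) = (x - s) + (y - t) by ring]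
        exact add_mem hs1 ht1
  have h3 : ∀ k, ∀ x : B ⊗[A] B, ∃ s ∈ S, x - s ∈ (KaehlerDifferential.ideal A B) ^ (k + 1) := by
    intro k
    induction k with
    | zero =>
      intro x
      obtain ⟨b, hb⟩ := SymGr.exists_sub_mem_ideal A B x
      exact ⟨algebraMap B _ b, Subalgebra.algebraMap_mem S b, by rwa [zero_add, pow_one]⟩
    | succ k ih =>
      intro x
      obtain ⟨s, hs, hxs⟩ := ih x
      obtain ⟨t, ht, hst, -⟩ := h2 k _ hxs
      exact ⟨s + t, add_mem hs ht, by rwa [show x - (s + t) = x - s - t by ring]⟩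
  intro y
  obtain ⟨x, rfl⟩ := Ideal.Quotient.mk_surjective y
  obtain ⟨s, ⟨f, rfl⟩, hxs⟩ := h3 n x
  exact ⟨f, by rw [tauMap_eq_mk]; exact (Ideal.Quotient.eq.mpr hxs).symm⟩

/-- Truncation to a given degree. -/
theorem exists_homogeneous_sub (k : ℕ) (f : MvPolynomial σ B) (hf : ∀ d : σ →₀ ℕ, d.degree < k → f.coeff d = 0) :
    ∀ d : σ →₀ ℕ, d.degree < k + 1 → (f - MvPolynomial.homogeneousComponent k f).coeff d = 0 := by
  intro d hd
  rw [MvPolynomial.coeff_sub, MvPolynomial.coeff_homogeneousComponent]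
  split_ifs with h
  · rw [sub_self]
  · rw [sub_zero]; exact hf d (by omega)

theorem homogeneous_mem_range (ι : Type u) [Fintype ι] (f : MvPolynomial σ B)
    (hf : MvPolynomial.IsHomogeneous f (Fintype.card ι)) :
    f ∈ LinearMap.range (SymGr.prodMap (ι := ι) (SymGr.linForm (R := B) (σ := σ))) := by
  classical
  rw [f.as_sum]
  refine Submodule.sum_mem _ fun d hd => ?_
  have hcard : Fintype.card ι = Fintype.card (Σ s : d.support, Fin (d s)) := by
    rw [Fintype.card_sigma]
    simp only [Fintype.card_fin]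
    rw [Finset.sum_coe_sort d.support fun s => d s]
    exact hf.degree_eq_sum_deg_support hd
  let e := Fintype.equivOfCardEq hcard
  let c : ι → σ := fun i => ((e i).1 : σ)
  refine ⟨MvPolynomial.coeff d f • SymmetricPower.tprod B (fun i => Finsupp.single (c i) (1 : B)), ?_⟩
  rw [map_smul, SymGr.prodMap_tprod]
  have : ∀ i, SymGr.linForm (R := B) (Finsupp.single (c i) (1 : B)) = MvPolynomial.X (c i) := fun i => by
    simp [SymGr.linForm]
  simp only [this]
  rw [show ∏ i, (MvPolynomial.X (c i) : MvPolynomial σ B) = MvPolynomial.monomial d 1 by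
    rw [Fintype.prod_equiv e (fun i => (MvPolynomial.X (c i) : MvPolynomial σ B))
      (fun p => MvPolynomial.X (p.1 : σ)) (fun i => rfl), Fintype.prod_sigma,
      MvPolynomial.monomial_eq, map_one, one_mul, Finsupp.prod]
    simp only [Finset.prod_const, Finset.card_univ, Fintype.card_fin]
    exact Finset.prod_coe_sort d.support fun s => (MvPolynomial.X s : MvPolynomial σ B) ^ d s]
  rw [MvPolynomial.smul_monomial, smul_eq_mul, mul_one]

/-- `tauT` computes the canonical map. -/
theorem canon_map_eq (ι : Type u) [Fintype ι] (L : (σ →₀ B) →ₗ[B] (KaehlerDifferential.ideal A B).Cotangent)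
    (hL : ∀ i, L (Finsupp.single i 1) = (KaehlerDifferential.ideal A B).toCotangent (SymGr.del A B (z i)))
    (x : Sym[B] ι (σ →₀ B)) :
    ∃ h : tauT (A := A) z (SymGr.prodMap (ι := ι) (SymGr.linForm (R := B) (σ := σ)) x) ∈
        KaehlerDifferential.ideal A B ^ Fintype.card ι,
      SymGr.canon B (KaehlerDifferential.ideal A B) ι (SymGr.map L x) = Submodule.Quotient.mk ⟨_, h⟩ := by
  classical
  have hx : x ∈ Submodule.span B (Set.range fun c : ι → σ => SymmetricPower.tprod B
      fun i => Finsupp.single (c i) (1 : B)) := by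
    rw [SymGr.tprod_span_eq_top (fun i => Finsupp.single i (1 : B))]
    · trivial
    · have h := (Finsupp.basisSingleOne (R := B) (ι := σ)).span_eq
      rwa [Finsupp.coe_basisSingleOne] at h
  induction hx using Submodule.span_induction with
  | mem x hx =>
    obtain ⟨c, rfl⟩ := hx
    have he : tauT (A := A) z (SymGr.prodMap (ι := ι) (SymGr.linForm (R := B) (σ := σ))
        (SymmetricPower.tprod B fun i => Finsupp.single (c i) (1 : B))) =
        ∏ i, (SymGr.del A B (z (c i)) : B ⊗[A] B) := by
      rw [SymGr.prodMap_tprod, map_prod]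
      refine Finset.prod_congr rfl fun i _ => ?_
      simp [SymGr.linForm, tauT, SymGr.del]
    refine ⟨by rw [he]; exact SymGr.prod_mem _ fun i => SymGr.del A B (z (c i)), ?_⟩
    rw [SymGr.map_tprod]
    simp only [hL]
    rw [SymGr.canon_tprod, SymGr.zeta]
    congr 1
    ext
    exact he.symm
  | zero =>
    refine ⟨by simp, ?_⟩
    rw [map_zero, map_zero]
    refine ((Submodule.Quotient.mk_eq_zero _).mpr ?_).symm
    simp
  | add a b _ _ iha ihb =>
    obtain ⟨ha, iha⟩ := iha
    obtain ⟨hb, ihb⟩ := ihb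
    refine ⟨by rw [map_add, map_add]; exact add_mem ha hb, ?_⟩
    rw [map_add, map_add, iha, ihb, ← Submodule.Quotient.mk_add]
    congr 1
    ext
    simp
  | smul r a _ iha =>
    obtain ⟨ha, iha⟩ := iha
    refine ⟨by rw [map_smul, map_smul]; exact Submodule.smul_of_tower_mem _ r ha, ?_⟩
    rw [map_smul, map_smul, iha, ← Submodule.Quotient.mk_smul]
    congr 1
    ext
    simp

/-- Diff smooth with basis `dz`: the kernel of `tauMap` is the truncation ideal. -/
theorem tauMap_ker_of_diffSmooth
    (hB : ∀ (ι : Type u) [Fintype ι], Function.Injective (SymGr.canon B (KaehlerDifferential.ideal A B) ι))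
    (b : Module.Basis σ B (KaehlerDifferential A B)) (hb : ∀ i, b i = KaehlerDifferential.D A B (z i))
    (n : ℕ) (f : MvPolynomial σ B) (hf : tauMap n A B z f = 0) (d : σ →₀ ℕ) (hd : d.degree ≤ n) :
    f.coeff d = 0 := by
  have hf' : tauT (A := A) z f ∈ KaehlerDifferential.ideal A B ^ (n + 1) := by
    rw [tauMap_eq_mk] at hf
    exact Ideal.Quotient.eq_zero_iff_mem.mp hf
  suffices H : ∀ k ≤ n + 1, ∀ d : σ →₀ ℕ, d.degree < k → f.coeff d = 0 from H (n + 1) le_rfl d (by omega)
  intro k
  induction k with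
  | zero => intro _ d hd; omega
  | succ k ih =>
    intro hk d hd
    have hlow := ih (by omega)
    by_cases hdk : d.degree < k
    · exact hlow d hdk
    let ι := ULift.{u} (Fin k)
    have hι : Fintype.card ι = k := by simp [ι]
    obtain ⟨x, hx⟩ := homogeneous_mem_range ι (MvPolynomial.homogeneousComponent k f)
      (by rw [hι]; exact MvPolynomial.homogeneousComponent_isHomogeneous k f)
    let L : (σ →₀ B) →ₗ[B] (KaehlerDifferential.ideal A B).Cotangent := b.repr.symm.toLinearMap
    have hL : ∀ i, L (Finsupp.single i 1) = (KaehlerDifferential.ideal A B).toCotangent (SymGr.del A B (z i)) :=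
      fun i => (b.repr_symm_single_one (i := i)).trans (hb i)
    obtain ⟨hmem, hc⟩ := canon_map_eq (A := A) z ι L hL x
    have h0 : SymGr.canon B (KaehlerDifferential.ideal A B) ι (SymGr.map L x) = 0 := by
      rw [hc, Submodule.Quotient.mk_eq_zero]
      show tauT (A := A) z _ ∈ KaehlerDifferential.ideal A B ^ (Fintype.card ι + 1)
      rw [hx, hι, show MvPolynomial.homogeneousComponent k f = f - (f - MvPolynomial.homogeneousComponent k f) by ring,
        map_sub]
      exact sub_mem (Ideal.pow_le_pow_right hk hf')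
        (tauT_mem_pow (A := A) z (k + 1) _ (exists_homogeneous_sub k f hlow))
    have h1 : SymGr.map L x = 0 := hB ι (by rw [h0, map_zero])
    have h2 : x = 0 := SymGr.map_injective_of_leftInverse L b.repr.toLinearMap
      (LinearMap.ext fun y => b.repr.apply_symm_apply y) (by rw [h1, map_zero])
    have h3 := congrArg (MvPolynomial.coeff d) hx
    rw [h2, map_zero, MvPolynomial.coeff_zero, MvPolynomial.coeff_homogeneousComponent, if_pos (by omega)] at h3
    exact h3.symm

variable [Fintype σ]

/-- `∏ ζ_i^(p i)`. -/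
noncomputable def zetaMon (m : ℕ) (p : σ → ℕ) : PP16.P m A B :=
  ∏ i, (PP16.dn m A B (z i) - algebraMap B (PP16.P m A B) (z i)) ^ (p i)

theorem tauMap_monomial (m : ℕ) (d : σ →₀ ℕ) (c : B) :
    tauMap m A B z (MvPolynomial.monomial d c) = c • zetaMon (A := A) z m d := by
  rw [tauMap, MvPolynomial.aeval_monomial, ← Algebra.smul_def, Finsupp.prod_fintype _ _ (fun i => pow_zero _)]
  rfl

theorem degree_eq_sum (d : σ →₀ ℕ) : d.degree = ∑ i, d i :=
  Finsupp.degree_eq_sum d

/-- The monomial basis. -/
theorem exists_basis (m : ℕ) (hs : Function.Surjective (tauMap m A B z))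
    (hk : ∀ f, tauMap m A B z f = 0 → ∀ d : σ →₀ ℕ, d.degree ≤ m → f.coeff d = 0) :
    ∃ b : Module.Basis {p : σ → ℕ // ∑ i, p i ≤ m} B (PP16.P m A B), ∀ p, b p = zetaMon (A := A) z m p.1 := by
  classical
  let v : {p : σ → ℕ // ∑ i, p i ≤ m} → PP16.P m A B := fun p => zetaMon (A := A) z m p.1
  have hli : LinearIndependent B v := by
    rw [linearIndependent_iff']
    intro s g hg p hp
    let f : MvPolynomial σ B := ∑ q ∈ s, MvPolynomial.monomial (Finsupp.equivFunOnFinite.symm q.1) (g q)
    have hf : tauMap m A B z f = 0 := by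
      rw [map_sum, ← hg]
      exact Finset.sum_congr rfl fun q _ => tauMap_monomial z m _ _
    have h := hk f hf (Finsupp.equivFunOnFinite.symm p.1) (by rw [degree_eq_sum]; exact p.2)
    rw [MvPolynomial.coeff_sum, Finset.sum_eq_single p] at h
    · simpa using h
    · intro q _ hqp
      rw [MvPolynomial.coeff_monomial, if_neg]
      intro he
      exact hqp (Subtype.ext (Finsupp.equivFunOnFinite.symm.injective he))
    · intro hn; exact absurd hp hn
  have hsp : ⊤ ≤ Submodule.span B (Set.range v) := by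
    intro y _
    obtain ⟨f, rfl⟩ := hs y
    rw [f.as_sum, map_sum]
    refine sum_mem fun d _ => ?_
    by_cases hd : d.degree ≤ m
    · rw [tauMap_monomial]
      exact Submodule.smul_mem _ _ (Submodule.subset_span ⟨⟨(d : σ → ℕ), by rwa [← degree_eq_sum]⟩, rfl⟩)
    · rw [tauMap_pow_eq_zero m A B z]
      · exact zero_mem _
      refine (MvPolynomial.mem_pow_idealOfVars_iff' _ _).mpr fun e he => ?_
      rw [MvPolynomial.coeff_monomial, if_neg]
      rintro rfl
      omega
  exact ⟨Module.Basis.mk hli hsp, fun p => Module.Basis.mk_apply hli hsp p⟩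

/-- `Y ↦ z + T`. -/
noncomputable def shift : MvPolynomial σ B →ₐ[B] MvPolynomial σ B :=
  MvPolynomial.aeval fun i => MvPolynomial.C (z i) + MvPolynomial.X i

theorem coeff_shift_prod (p : σ →₀ ℕ) (q : σ → ℕ) :
    MvPolynomial.coeff p (∏ i, (MvPolynomial.C (z i) + MvPolynomial.X i : MvPolynomial σ B) ^ q i) =
      ((∏ i, Nat.choose (q i) (p i) : ℕ) : B) * ∏ i, z i ^ (q i - p i) := by
  classical
  simp only [add_comm (MvPolynomial.C _), add_pow, Finset.prod_univ_sum, MvPolynomial.coeff_sum]
  have hterm : ∀ a : σ → ℕ, (∏ i, ((MvPolynomial.X i : MvPolynomial σ B) ^ a i * MvPolynomial.C (z i) ^ (q i - a i) *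
      (Nat.choose (q i) (a i) : MvPolynomial σ B))) =
      MvPolynomial.monomial (Finsupp.equivFunOnFinite.symm a)
        (((∏ i, Nat.choose (q i) (a i) : ℕ) : B) * ∏ i, z i ^ (q i - a i)) := by
    intro a
    rw [MvPolynomial.monomial_eq, Finsupp.prod_fintype _ _ (fun i => pow_zero _), Finset.prod_mul_distrib,
      Finset.prod_mul_distrib, map_mul, map_prod, Nat.cast_prod, map_prod]
    simp only [map_natCast, map_pow, Finsupp.coe_equivFunOnFinite_symm]
    ring
  simp only [hterm, MvPolynomial.coeff_monomial]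
  by_cases hp : ∀ i, p i ≤ q i
  · rw [Finset.sum_eq_single (p : σ → ℕ)]
    · rw [if_pos (show Finsupp.equivFunOnFinite.symm (p : σ → ℕ) = p from Finsupp.ext fun i => rfl)]
    · intro a _ ha
      rw [if_neg]
      intro he
      exact ha (by rw [← he]; rfl)
    · intro h
      exact absurd (Fintype.mem_piFinset.mpr fun i => Finset.mem_range.mpr (Nat.lt_succ_of_le (hp i))) h
  · simp only [not_forall, not_le] at hp
    obtain ⟨i, hi⟩ := hp
    rw [Finset.sum_eq_zero]
    · rw [Finset.prod_eq_zero (Finset.mem_univ i) (Nat.choose_eq_zero_of_lt hi), Nat.cast_zero, zero_mul]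
    · intro a ha
      rw [if_neg]
      intro he
      have h1 := Finset.mem_range.mp (Fintype.mem_piFinset.mp ha i)
      have h2 : a i = p i := by rw [← he]; rfl
      omega

/-- The linearisation as a `B`-linear map. -/
noncomputable def lin (D : B →ₗ[A] B) : B ⊗[A] B →ₗ[B] B :=
  TensorProduct.AlgebraTensorModule.lift ((LinearMap.ringLmapEquivSelf B B _).symm D)

theorem lin_tmul (D : B →ₗ[A] B) (b c : B) : lin D (b ⊗ₜ[A] c) = b * D c := rfl

theorem lin_eq_linearize (D : B →ₗ[A] B) (x : B ⊗[A] B) : lin D x = Diff16.linearize A B B B D x := by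
  induction x using TensorProduct.induction_on with
  | zero => simp
  | add x y hx hy => rw [map_add, map_add, hx, hy]
  | tmul b c => simp [lin_tmul, Diff16.linearize]

variable {z}

/-- Value of a linearised divided power operator on `tauT f`. -/
theorem lin_tauT (p : σ → ℕ) (D : B →ₗ[A] B)
    (hD : ∀ q : σ → ℕ, D (∏ i, z i ^ q i) = ((∏ i, Nat.choose (q i) (p i) : ℕ) : B) * ∏ i, z i ^ (q i - p i))
    (f : MvPolynomial σ B) :
    lin D (tauT (A := A) z f) = f.coeff (Finsupp.equivFunOnFinite.symm p) := by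
  classical
  let g : MvPolynomial σ B →ₐ[B] B ⊗[A] B := MvPolynomial.aeval fun i => (1 : B) ⊗ₜ[A] z i
  have key : (lin D) ∘ₗ g.toLinearMap =
      (MvPolynomial.lcoeff B (Finsupp.equivFunOnFinite.symm p)) ∘ₗ (shift z).toLinearMap := by
    refine MvPolynomial.linearMap_ext fun d => LinearMap.ext_ring ?_
    show lin D (g (MvPolynomial.monomial d 1)) =
      MvPolynomial.coeff (Finsupp.equivFunOnFinite.symm p) (shift z (MvPolynomial.monomial d 1))
    have h1 : g (MvPolynomial.monomial d 1) = (1 : B) ⊗ₜ[A] ∏ i, z i ^ d i := by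
      rw [MvPolynomial.aeval_monomial, map_one, one_mul, Finsupp.prod_fintype _ _ (fun i => pow_zero _)]
      simp only [Algebra.TensorProduct.tmul_pow, one_pow]
      exact (map_prod (Algebra.TensorProduct.includeRight : B →ₐ[A] B ⊗[A] B) (fun i => z i ^ d i) Finset.univ).symm
    have h2 : shift z (MvPolynomial.monomial d 1) =
        ∏ i, (MvPolynomial.C (z i) + MvPolynomial.X i : MvPolynomial σ B) ^ d i := by
      rw [shift, MvPolynomial.aeval_monomial, map_one, one_mul, Finsupp.prod_fintype _ _ (fun i => pow_zero _)]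
    rw [h1, lin_tmul, one_mul, hD, h2, coeff_shift_prod]
    rfl
  have hg : ∀ f, g (MvPolynomial.aeval (fun i => MvPolynomial.X i - MvPolynomial.C (z i)) f) = tauT (A := A) z f := by
    have h : g.comp (MvPolynomial.aeval fun i => MvPolynomial.X i - MvPolynomial.C (z i)) = tauT (A := A) z :=
      MvPolynomial.algHom_ext fun i => by
        simp [g, tauT, Algebra.TensorProduct.algebraMap_apply]
    exact fun f => DFunLike.congr_fun h f
  have hs : ∀ f, shift z (MvPolynomial.aeval (fun i => MvPolynomial.X i - MvPolynomial.C (z i)) f) = f := by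
    have h : (shift z).comp (MvPolynomial.aeval fun i => MvPolynomial.X i - MvPolynomial.C (z i)) = AlgHom.id B _ :=
      MvPolynomial.algHom_ext fun i => by simp [shift]
    exact fun f => DFunLike.congr_fun h f
  have := LinearMap.congr_fun key (MvPolynomial.aeval (fun i => MvPolynomial.X i - MvPolynomial.C (z i)) f)
  simp only [LinearMap.comp_apply, AlgHom.toLinearMap_apply, MvPolynomial.lcoeff_apply, hg, hs] at this
  exact this

/-- The linearised operator vanishes on high powers of the diagonal ideal. -/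
theorem lin_eq_zero (hz : Submodule.span B (Set.range fun i => KaehlerDifferential.D A B (z i)) = ⊤)
    (p : σ → ℕ) (D : B →ₗ[A] B) (hk : ∃ k, Diff16.IsDiffOpLE A B B B k D)
    (hD : ∀ q : σ → ℕ, D (∏ i, z i ^ q i) = ((∏ i, Nat.choose (q i) (p i) : ℕ) : B) * ∏ i, z i ^ (q i - p i))
    (m : ℕ) (hm : ∑ i, p i ≤ m) (x : B ⊗[A] B) (hx : x ∈ KaehlerDifferential.ideal A B ^ (m + 1)) :
    lin D x = 0 := by
  obtain ⟨k, hk⟩ := hk
  by_cases hkm : k ≤ m
  · rw [lin_eq_linearize]
    exact (DiffOps.iff_vanish k D).mp hk x (Ideal.pow_le_pow_right (by omega) hx)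
  have hvan : ∀ y ∈ KaehlerDifferential.ideal A B ^ (k + 1), lin D y = 0 := fun y hy => by
    rw [lin_eq_linearize]; exact (DiffOps.iff_vanish k D).mp hk y hy
  have haug : PP16.augIdeal k A B ≤ (MvPolynomial.idealOfVars σ B).map (tauMap k A B z) := by
    intro y hy
    obtain ⟨f, rfl⟩ := tauMap_surjective_of_span A z hz k y
    have hc : f - MvPolynomial.C (f.coeff 0) ∈ MvPolynomial.idealOfVars σ B := by
      rw [← pow_one (MvPolynomial.idealOfVars σ B), MvPolynomial.mem_pow_idealOfVars_iff']
      intro d hd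
      obtain rfl : d = 0 := (Finsupp.degree_eq_zero_iff d).mp (Nat.lt_one_iff.mp hd)
      simp
    have h0 : f.coeff 0 = 0 := by
      have h1 : tauT (A := A) z f ∈ KaehlerDifferential.ideal A B := by
        rw [tauMap_eq_mk, PP16.augIdeal] at hy
        have := (Ideal.mem_quotient_iff_mem_sup (I := KaehlerDifferential.ideal A B ^ (k + 1))
          (J := KaehlerDifferential.ideal A B) (x := tauT (A := A) z f)).mp hy
        rwa [sup_eq_left.mpr (Ideal.pow_le_self (Nat.succ_ne_zero k))] at this
      have h2 : tauT (A := A) z (f - MvPolynomial.C (f.coeff 0)) ∈ KaehlerDifferential.ideal A B := by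
        have h := tauT_mem_pow (A := A) z 1 (f - MvPolynomial.C (f.coeff 0)) (by
          intro d hd
          obtain rfl : d = 0 := (Finsupp.degree_eq_zero_iff d).mp (Nat.lt_one_iff.mp hd)
          simp)
        rwa [pow_one] at h
      have h3 := sub_mem h1 h2
      rw [← map_sub, sub_sub_cancel, tauT, MvPolynomial.aeval_C, KaehlerDifferential.ideal, RingHom.mem_ker,
        Algebra.TensorProduct.algebraMap_apply] at h3
      simpa using h3
    have : f = f - MvPolynomial.C (f.coeff 0) := by rw [h0, map_zero, sub_zero]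
    rw [this]
    exact Ideal.mem_map_of_mem _ hc
  have hmk : (Ideal.Quotient.mk (KaehlerDifferential.ideal A B ^ (k + 1)) x : PP16.P k A B) ∈
      (MvPolynomial.idealOfVars σ B ^ (m + 1)).map (tauMap k A B z) := by
    rw [Ideal.map_pow]
    refine Ideal.pow_right_mono haug (m + 1) ?_
    rw [PP16.augIdeal, ← Ideal.map_pow]
    exact Ideal.mem_map_of_mem _ hx
  obtain ⟨f, hf, hfx⟩ := (Ideal.mem_map_iff_of_surjective (tauMap k A B z)
    (tauMap_surjective_of_span A z hz k)).mp hmk
  rw [tauMap_eq_mk, Ideal.Quotient.eq] at hfx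
  have h := hvan _ hfx
  rw [map_sub, sub_eq_zero, lin_tauT p D hD] at h
  rw [← h]
  exact (MvPolynomial.mem_pow_idealOfVars_iff' _ _).mp hf _ (by rw [degree_eq_sum]; simpa using Nat.lt_succ_of_le hm)

/-- Divided power operators force the kernel to be the truncation ideal. -/
theorem ker_of_operators (hz : Submodule.span B (Set.range fun i => KaehlerDifferential.D A B (z i)) = ⊤)
    (Dp : (σ → ℕ) → (B →ₗ[A] B)) (hD : ∀ p, ∃ k : ℕ, Diff16.IsDiffOpLE A B B B k (Dp p))
    (hDz : ∀ p q : σ → ℕ, Dp p (∏ i, z i ^ q i) =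
        ((∏ i, Nat.choose (q i) (p i) : ℕ) : B) * ∏ i, z i ^ (q i - p i))
    (m : ℕ) (f : MvPolynomial σ B) (hf : tauMap m A B z f = 0) (d : σ →₀ ℕ) (hd : d.degree ≤ m) :
    f.coeff d = 0 := by
  rw [tauMap_eq_mk] at hf
  have h := lin_eq_zero hz d (Dp d) (hD d) (hDz d) m (by rwa [← degree_eq_sum]) _
    (Ideal.Quotient.eq_zero_iff_mem.mp hf)
  rw [lin_tauT d (Dp d) (hDz d)] at h
  simpa using h

end Groth.Agent.PP
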