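import Groth.Agent.Lib.PP16.Basic
import Mathlib.RingTheory.MvPolynomial.Ideal
import Mathlib.RingTheory.FiniteType
import Mathlib.RingTheory.Adjoin.FG
import Mathlib.RingTheory.IntegralClosure.IsIntegralClosure.Basic

/-!
# Principal parts and truncated polynomial rings
-/

universe u v
open scoped TensorProduct

namespace Groth.Agent.PP

variable (n : ℕ) (A B : Type u) [CommRing A] [CommRing B] [Algebra A B] {σ : Type v} (z : σ → B)

/-- The algebra map from polynomials sending `T i` to `dn (z i) - z i`. -/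
noncomputable def tauMap : MvPolynomial σ B →ₐ[B] PP16.P n A B :=
  MvPolynomial.aeval fun i => PP16.dn n A B (z i) - algebraMap B (PP16.P n A B) (z i)

theorem tauMap_pow_eq_zero {p : MvPolynomial σ B}
    (hp : p ∈ Ideal.span (Set.range (MvPolynomial.X : σ → MvPolynomial σ B)) ^ (n + 1)) :
    tauMap n A B z p = 0 := by
  have hle : (Ideal.span (Set.range (MvPolynomial.X : σ → MvPolynomial σ B))).map (tauMap n A B z) ≤
      PP16.augIdeal n A B := by
    rw [Ideal.map_span, Ideal.span_le]
    rintro _ ⟨_, ⟨i, rfl⟩, rfl⟩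
    rw [tauMap, MvPolynomial.aeval_X]
    exact dn_sub_mem n A B (z i)
  have h := Ideal.pow_right_mono hle (n + 1)
  rw [← Ideal.map_pow, augIdeal_pow] at h
  exact (Submodule.mem_bot _).mp (h (Ideal.mem_map_of_mem _ hp))

theorem sub_mem_of_ext (D : Type (max u v)) [CommRing D] [Algebra A D] (J : Ideal D) (f g : B →ₐ[A] D)
    (h : ∀ i, g (z i) - f (z i) ∈ J)
    (hext : ∀ (D : Type (max u v)) [CommRing D] [Algebra A D] (φ ψ : B →ₐ[A] D),
      (∀ i, φ (z i) = ψ (z i)) → φ = ψ) (b : B) : g b - f b ∈ J := by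
  have h := hext (D ⧸ J) ((Ideal.Quotient.mkₐ A J).comp g) ((Ideal.Quotient.mkₐ A J).comp f) fun i => by
    simp only [AlgHom.coe_comp, Function.comp_apply, Ideal.Quotient.mkₐ_eq_mk]
    exact Ideal.Quotient.eq.mpr (h i)
  exact Ideal.Quotient.eq.mp (DFunLike.congr_fun h b)

/-- Main comparison: if an `A`-algebra map `ρ : B → B[T]/(T)^(n+1)` sends `z i` to `z i + T i`
and `A`-algebra maps out of `B` are determined by the `z i`, then `P^n` is the truncated polynomial
ring. -/
theorem tauMap_surjective_ker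
    (ρ : B →ₐ[A] MvPolynomial σ B ⧸
      Ideal.span (Set.range (MvPolynomial.X : σ → MvPolynomial σ B)) ^ (n + 1))
    (hρ : ∀ i, ρ (z i) = Ideal.Quotient.mk _ (MvPolynomial.C (z i) + MvPolynomial.X i))
    (hext : ∀ (D : Type (max u v)) [CommRing D] [Algebra A D] (φ ψ : B →ₐ[A] D),
      (∀ i, φ (z i) = ψ (z i)) → φ = ψ)
    (hextP : ∀ (φ ψ : B →ₐ[A] PP16.P n A B), (∀ i, φ (z i) = ψ (z i)) → φ = ψ) :
    Function.Surjective (tauMap n A B z) ∧
      RingHom.ker (tauMap n A B z).toRingHom =
        Ideal.span (Set.range (MvPolynomial.X : σ → MvPolynomial σ B)) ^ (n + 1) := by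
  let Ψ : (MvPolynomial σ B ⧸ (Ideal.span (Set.range (MvPolynomial.X : σ → MvPolynomial σ B))) ^ (n + 1)) →ₐ[B] PP16.P n A B :=
    Ideal.Quotient.liftₐ _ (tauMap n A B z) fun p hp => tauMap_pow_eq_zero n A B z hp
  have hΨρ : (Ψ.restrictScalars A).comp ρ = PP16.dn n A B := by
    refine hextP _ _ fun i => ?_
    show Ψ (ρ (z i)) = _
    rw [hρ]
    show tauMap n A B z _ = _
    rw [map_add, tauMap, MvPolynomial.aeval_C, MvPolynomial.aeval_X, add_sub_cancel]
  let J : Ideal (MvPolynomial σ B ⧸ (Ideal.span (Set.range (MvPolynomial.X : σ → MvPolynomial σ B))) ^ (n + 1)) := (Ideal.span (Set.range (MvPolynomial.X : σ → MvPolynomial σ B))).map (Ideal.Quotient.mk ((Ideal.span (Set.range (MvPolynomial.X : σ → MvPolynomial σ B))) ^ (n + 1)))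
  have hJ : J ^ (n + 1) = ⊥ := by
    rw [← Ideal.map_pow, Ideal.map_quotient_self]
  let f0 : B →ₐ[A] MvPolynomial σ B ⧸ (Ideal.span (Set.range (MvPolynomial.X : σ → MvPolynomial σ B))) ^ (n + 1) :=
    IsScalarTower.toAlgHom A B (MvPolynomial σ B ⧸ (Ideal.span (Set.range (MvPolynomial.X : σ → MvPolynomial σ B))) ^ (n + 1))
  have hfg : ∀ b, ρ b - f0 b ∈ J := by
    refine sub_mem_of_ext A B z _ J f0 ρ (fun i => ?_) hext
    rw [hρ]
    show Ideal.Quotient.mk ((Ideal.span (Set.range (MvPolynomial.X : σ → MvPolynomial σ B))) ^ (n + 1)) (MvPolynomial.C (z i) + MvPolynomial.X i) -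
      Ideal.Quotient.mk ((Ideal.span (Set.range (MvPolynomial.X : σ → MvPolynomial σ B))) ^ (n + 1)) (MvPolynomial.C (z i)) ∈ J
    rw [← map_sub, add_sub_cancel_left]
    exact Ideal.mem_map_of_mem _ (Ideal.subset_span ⟨i, rfl⟩)
  let Φ := liftP f0 ρ J hJ hfg
  have h1 : ∀ x, Ψ (Φ x) = x := by
    have h := hom_ext n A B (φ := Ψ.toRingHom.comp Φ.toRingHom) (ψ := RingHom.id _)
      (fun b => by
        show Ψ (Φ _) = _
        rw [liftP_algebraMap, RingHom.id_apply]
        exact Ψ.commutes b)
      (fun b => by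
        show Ψ (Φ _) = _
        rw [liftP_dn, RingHom.id_apply]
        exact DFunLike.congr_fun hΨρ b)
    exact DFunLike.congr_fun h
  have h2 : ∀ p, Φ (tauMap n A B z p) = Ideal.Quotient.mk _ p := by
    have h : Φ.toRingHom.comp (tauMap n A B z).toRingHom = Ideal.Quotient.mk ((Ideal.span (Set.range (MvPolynomial.X : σ → MvPolynomial σ B))) ^ (n + 1)) := by
      refine MvPolynomial.ringHom_ext (fun b => ?_) (fun i => ?_)
      · show Φ (tauMap n A B z (MvPolynomial.C b)) = _
        rw [tauMap, MvPolynomial.aeval_C, liftP_algebraMap]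
        rfl
      · show Φ (tauMap n A B z (MvPolynomial.X i)) = _
        rw [tauMap, MvPolynomial.aeval_X, map_sub, liftP_dn, liftP_algebraMap, hρ]
        show Ideal.Quotient.mk _ (MvPolynomial.C (z i) + MvPolynomial.X i) -
          Ideal.Quotient.mk _ (MvPolynomial.C (z i)) = _
        rw [← map_sub, add_sub_cancel_left]
    exact DFunLike.congr_fun h
  refine ⟨fun x => ?_, le_antisymm (fun p hp => ?_) fun p hp => tauMap_pow_eq_zero n A B z hp⟩
  · obtain ⟨p, hp⟩ := Ideal.Quotient.mk_surjective (Φ x)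
    refine ⟨p, ?_⟩
    have := h1 x
    rw [← hp] at this
    exact this
  · have h := h2 p
    rw [RingHom.mem_ker] at hp
    rw [show tauMap n A B z p = 0 from hp, map_zero] at h
    exact Ideal.Quotient.eq_zero_iff_mem.mp h.symm

/-- If `z` generates `B` as an `A`-algebra, `tauMap` is surjective. -/
theorem tauMap_surjective (hz : Algebra.adjoin A (Set.range z) = ⊤) :
    Function.Surjective (tauMap n A B z) := by
  refine surjective_of_generators n A B (tauMap n A B z).toRingHom (fun b => ⟨MvPolynomial.C b, ?_⟩) fun b => ?_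
  · exact MvPolynomial.aeval_C _ b
  · have hle : Algebra.adjoin A (Set.range z) ≤
        (((tauMap n A B z).restrictScalars A).range).comap (PP16.dn n A B) := by
      refine Algebra.adjoin_le ?_
      rintro _ ⟨i, rfl⟩
      refine ⟨MvPolynomial.C (z i) + MvPolynomial.X i, ?_⟩
      show tauMap n A B z _ = _
      rw [map_add, tauMap, MvPolynomial.aeval_C, MvPolynomial.aeval_X, add_sub_cancel]
      rfl
    rw [hz] at hle
    exact hle (x := b) trivial

theorem finite_of_finiteType [Algebra.FiniteType A B] : Module.Finite B (PP16.P n A B) := by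
  obtain ⟨s, hs⟩ := (inferInstance : Algebra.FiniteType A B).out
  have hsurj := tauMap_surjective n A B (σ := (s : Set B)) Subtype.val (by simpa using hs)
  haveI : Algebra.FiniteType B (PP16.P n A B) :=
    Algebra.FiniteType.of_surjective (tauMap n A B (σ := (s : Set B)) Subtype.val) hsurj
  haveI : Algebra.IsIntegral B (PP16.P n A B) := by
    refine ⟨fun x => ?_⟩
    obtain ⟨p, rfl⟩ := hsurj x
    induction p using MvPolynomial.induction_on with
    | C b => rw [tauMap, MvPolynomial.aeval_C]; exact isIntegral_algebraMap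
    | add p q hp hq => rw [map_add]; exact hp.add hq
    | mul_X p i hp =>
      rw [map_mul]
      refine hp.mul ?_
      rw [tauMap, MvPolynomial.aeval_X]
      refine IsIntegral.of_pow (n := n + 1) (Nat.succ_pos n) ?_
      have h := Ideal.pow_mem_pow (dn_sub_mem n A B (i : B)) (n + 1)
      rw [augIdeal_pow, Submodule.mem_bot] at h
      rw [h]
      exact isIntegral_zero
  exact Algebra.IsIntegral.finite

end Groth.Agent.PP
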